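/-
`SL_n(F)`, `n ≥ 4`, `F` finite, is generated by two conjugate regular unipotent elements.

The first is the Jordan block `J`, the second is `t J t⁻¹` with `t` a transvection whose centre is
`J e` and whose axis kills `J e, ..., J ^ (n - 1) e`. The transvections with centre `J ^ (k + μ) e`
and axis `ψ k` form a root datum indexed by differences, on which the commutator acts additively.
-/
import Cfsg.Agent.Lib.GL.Simple
import Mathlib.Data.Nat.Choose.Lucas

set_option autoImplicit false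
set_option linter.unusedSectionVars false

open Matrix
open scoped MatrixGroups commutatorElement

namespace Cfsg.Agent.TwoRegular.SLn

variable (F : Type*) [Field F] (n : ℕ) [NeZero n]

local notation "G" => SpecialLinearGroup (Fin n) F

/-- The lower Jordan block. -/
def Jm : Matrix (Fin n) (Fin n) F := fun i j => if (i : ℕ) = j ∨ (i : ℕ) = j + 1 then 1 else 0

theorem Jm_det : (Jm F n).det = 1 := by
  rw [det_of_lowerTriangular]
  · exact Finset.prod_eq_one fun i _ => if_pos (Or.inl rfl)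
  · intro i j hij
    have : (i : ℕ) < (j : ℕ) := hij
    exact if_neg (by omega)

/-- The regular unipotent element. -/
def J : G := ⟨Jm F n, Jm_det F n⟩

/-- The matrix of an element. -/
def mat : G →* Matrix (Fin n) (Fin n) F where
  toFun g := g.1
  map_one' := rfl
  map_mul' _ _ := rfl

/-- The orbit of the first basis vector. -/
def col (k : ℤ) : Fin n → F := mat F n (J F n ^ k) *ᵥ Pi.single 0 1

/-- The alternating functional. -/
def sgn : Fin n → F := fun i => (-1) ^ (i : ℕ)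

/-- The axes. -/
def psi (k : ℤ) : Fin n → F := sgn F n ᵥ* mat F n (J F n ^ (-k))

/-- The value of the axis `k` at the centre `l` depends on `l - k` only. -/
def b (j : ℤ) : F := sgn F n ⬝ᵥ col F n j

variable {F n}

theorem zpow_mulVec_col (k l : ℤ) :
    mat F n (J F n ^ k) *ᵥ col F n l = col F n (k + l) := by
  rw [col, col, mulVec_mulVec, ← map_mul, ← _root_.zpow_add]

theorem psi_col (k l : ℤ) : psi F n k ⬝ᵥ col F n l = b F n (l - k) := by
  rw [psi, ← dotProduct_mulVec, zpow_mulVec_col, b, show -k + l = l - k by ring]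

theorem psi_vecMul (k j : ℤ) :
    psi F n k ᵥ* mat F n (J F n ^ (-j)) = psi F n (k + j) := by
  rw [psi, psi, vecMul_vecMul, ← map_mul, ← _root_.zpow_add, show -k + -j = -(k + j) by ring]

theorem Jm_mulVec (v : Fin n → F) (i : Fin n) :
    (Jm F n *ᵥ v) i = v i + if h : 0 < (i : ℕ) then v ⟨i - 1, by omega⟩ else 0 := by
  show ∑ j, Jm F n i j * v j = _
  split_ifs with h
  · rw [Finset.sum_eq_add i (⟨i - 1, by omega⟩ : Fin n)]
    · have : ((i : ℕ) = (i : ℕ) - 1 ∨ (i : ℕ) = (i : ℕ) - 1 + 1) := Or.inr (by omega)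
      simp [Jm, this]
    · exact fun e => by simp [Fin.ext_iff] at e; omega
    · intro c _ hc
      have : ¬ ((i : ℕ) = c ∨ (i : ℕ) = c + 1) := by
        rintro (e | e)
        · exact hc.1 (Fin.ext e.symm)
        · exact hc.2 (Fin.ext (by simp only; omega))
      simp [Jm, this]
    · simp
    · simp
  · rw [Finset.sum_eq_single i, add_zero]
    · simp [Jm]
    · intro c _ hc
      have : ¬ ((i : ℕ) = c ∨ (i : ℕ) = c + 1) := by
        rintro (e | e)
        · exact hc (Fin.ext e.symm)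
        · omega
      simp [Jm, this]
    · simp

theorem col_nat : ∀ (j : ℕ) (i : Fin n), col F n (j : ℤ) i = (j.choose i : F)
  | 0, i => by
    rw [col, Nat.cast_zero, zpow_zero, map_one, one_mulVec]
    rcases Nat.eq_zero_or_pos (i : ℕ) with h | h
    · obtain rfl : i = 0 := Fin.ext (by simpa using h)
      simp
    · rw [Pi.single_eq_of_ne (fun e => by simp [e] at h), Nat.choose_eq_zero_of_lt h, Nat.cast_zero]
  | j + 1, i => by
    have e : col F n ((j + 1 : ℕ) : ℤ) = Jm F n *ᵥ col F n (j : ℤ) := by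
      rw [show ((j + 1 : ℕ) : ℤ) = 1 + (j : ℤ) by push_cast; ring, ← zpow_mulVec_col, _root_.zpow_one]
      rfl
    rw [e, Jm_mulVec, col_nat j i]
    split_ifs with h
    · rw [col_nat j ⟨i - 1, _⟩]
      obtain ⟨k, hk⟩ : ∃ k, (i : ℕ) = k + 1 := ⟨(i : ℕ) - 1, by omega⟩
      simp only [hk, Nat.add_sub_cancel, Nat.choose_succ_succ', Nat.cast_add]
      ring
    · rw [show (i : ℕ) = 0 by omega]
      simp

theorem b_zero : b F n 0 = 1 := by
  rw [b, dotProduct, Finset.sum_eq_single (0 : Fin n)]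
  · have := col_nat (F := F) (n := n) 0 0
    simp at this
    simp [sgn, this]
  · intro c _ hc
    have := col_nat (F := F) (n := n) 0 c
    rw [Nat.cast_zero] at this
    rw [this, Nat.choose_eq_zero_of_lt (Nat.pos_of_ne_zero fun h => hc (Fin.ext (by simpa using h))),
      Nat.cast_zero, mul_zero]
  · simp

theorem alt_sum (j : ℕ) : ∀ m : ℕ,
    ∑ i ∈ Finset.range (m + 1), (-1 : F) ^ i * ((j + 1).choose i : F) = (-1) ^ m * (j.choose m : F)
  | 0 => by simp
  | m + 1 => by
    rw [Finset.sum_range_succ, alt_sum j m, Nat.choose_succ_succ', Nat.cast_add, pow_succ]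
    ring

theorem b_succ (j : ℕ) : b F n ((j + 1 : ℕ) : ℤ) = (-1) ^ (n - 1) * (j.choose (n - 1) : F) := by
  rw [b, dotProduct]
  simp only [col_nat, sgn]
  rw [Fin.sum_univ_eq_sum_range (fun i => (-1 : F) ^ i * ((j + 1).choose i : F)) n, ← alt_sum j (n - 1),
    Nat.sub_add_cancel (NeZero.one_le (n := n))]

theorem b_of_pos {j : ℤ} (h1 : 1 ≤ j) (h2 : j < n) : b F n j = 0 := by
  obtain ⟨k, rfl⟩ : ∃ k : ℕ, j = ((k + 1 : ℕ) : ℤ) := ⟨(j - 1).toNat, by omega⟩
  rw [b_succ, Nat.choose_eq_zero_of_lt (by omega), Nat.cast_zero, mul_zero]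

theorem b_self : b F n (n : ℤ) = (-1) ^ (n - 1) := by
  obtain ⟨k, hk⟩ : ∃ k, n = k + 1 := ⟨n - 1, by have := NeZero.one_le (n := n); omega⟩
  rw [show (n : ℤ) = ((k + 1 : ℕ) : ℤ) by rw [hk], b_succ, show n - 1 = k by omega, Nat.choose_self,
    Nat.cast_one, mul_one]

theorem choose_shift {p : ℕ} [Fact p.Prime] : ∀ (e m : ℕ), 1 ≤ m →
    (p ^ e * m + p ^ e - 1).choose (p ^ e * m - 1) ≡ m [MOD p]
  | 0, m, hm => by
    rw [pow_zero, one_mul, Nat.add_sub_cancel, ← Nat.choose_symm (Nat.sub_le m 1),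
      show m - (m - 1) = 1 by omega, Nat.choose_one_right]
  | e + 1, m, hm => by
    have hp : 0 < p := (Fact.out : p.Prime).pos
    have hP : 0 < p ^ e := pow_pos hp e
    have hA : 0 < p ^ e * m := Nat.mul_pos hP hm
    have e1 : p ^ (e + 1) * m + p ^ (e + 1) - 1 = (p - 1) + p * (p ^ e * m + p ^ e - 1) := by
      rw [Nat.mul_sub, Nat.mul_add, mul_one, ← mul_assoc, ← pow_succ']
      have : p ≤ p ^ (e + 1) := Nat.le_self_pow (by omega) p
      omega
    have e2 : p ^ (e + 1) * m - 1 = (p - 1) + p * (p ^ e * m - 1) := by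
      rw [Nat.mul_sub, mul_one, ← mul_assoc, ← pow_succ']
      have : p ≤ p ^ (e + 1) * m := (Nat.le_self_pow (by omega) p).trans (Nat.le_mul_of_pos_right _ hm)
      omega
    refine Choose.choose_modEq_choose_mod_mul_choose_div_nat.trans ?_
    rw [e1, e2, Nat.add_mul_mod_self_left, Nat.add_mul_mod_self_left, Nat.add_mul_div_left _ _ hp,
      Nat.add_mul_div_left _ _ hp, Nat.mod_eq_of_lt (by omega), Nat.div_eq_of_lt (by omega), zero_add,
      zero_add, Nat.choose_self, one_mul]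
    exact choose_shift e m hm

theorem b_shift {p : ℕ} [Fact p.Prime] [CharP F p] {e m : ℕ} (hn : n = p ^ e * m) :
    b F n ((n + p ^ e : ℕ) : ℤ) = (-1) ^ (n - 1) * (m : F) := by
  have hm : 1 ≤ m := Nat.one_le_iff_ne_zero.2 (fun h => NeZero.ne n (by simp [hn, h]))
  have hP : 0 < p ^ e := pow_pos (Fact.out : p.Prime).pos e
  have h := (CharP.natCast_eq_natCast F p).2 (choose_shift (p := p) e m hm)
  rw [← hn] at h
  rw [show n + p ^ e = (n + p ^ e - 1) + 1 by omega, b_succ, h]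

/-! ### Root elements -/

variable (F n) in
/-- The matrix unit of centre `k + μ` and axis `k`. -/
def A (μ k : ℤ) : Matrix (Fin n) (Fin n) F := vecMulVec (col F n (k + μ)) (psi F n k)

theorem A_mul_A (μ k ν l : ℤ) :
    A F n μ k * A F n ν l = b F n (l + ν - k) • A F n (k + μ - l) l := by
  rw [A, A, A, vecMulVec_mul_vecMulVec, psi_col, show l + (k + μ - l) = k + μ by ring, vecMulVec_smul]

/-- The root element. -/
def R (μ k : ℤ) (h : b F n μ = 0) (x : F) : G :=
  ⟨1 + x • A F n μ k, by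
    rw [A, ← smul_vecMulVec, vecMulVec_eq Unit, det_one_add_replicateCol_mul_replicateRow, dotProduct_smul,
      psi_col, add_sub_cancel_left, h, smul_zero, add_zero]⟩

theorem coe_R (μ k : ℤ) (h : b F n μ = 0) (x : F) :
    mat F n (R μ k h x) = 1 + x • A F n μ k := rfl

theorem A_sq (μ k : ℤ) (h : b F n μ = 0) : A F n μ k * A F n μ k = 0 := by
  rw [A_mul_A, add_sub_cancel_left, h, zero_smul]

theorem R_add (μ k : ℤ) (h : b F n μ = 0) (x y : F) : R μ k h x * R μ k h y = R μ k h (x + y) := by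
  refine Subtype.ext ?_
  show (1 + x • A F n μ k) * (1 + y • A F n μ k) = 1 + (x + y) • A F n μ k
  simp only [add_mul, mul_add, one_mul, mul_one, smul_mul_assoc, mul_smul_comm, A_sq μ k h, smul_zero]
  module

theorem R_zero (μ k : ℤ) (h : b F n μ = 0) : R μ k h 0 = 1 := Subtype.ext (by simp [R])

theorem R_inv (μ k : ℤ) (h : b F n μ = 0) (x : F) : (R μ k h x)⁻¹ = R μ k h (-x) :=
  inv_eq_of_mul_eq_one_right (by rw [R_add, add_neg_cancel, R_zero])

theorem R_conj (μ k j : ℤ) (h : b F n μ = 0) (x : F) :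
    J F n ^ j * R μ k h x * (J F n ^ j)⁻¹ = R μ (k + j) h x := by
  rw [← _root_.zpow_neg]
  refine Subtype.ext ?_
  show mat F n (J F n ^ j) * (1 + x • A F n μ k) *
    mat F n (J F n ^ (-j)) = 1 + x • A F n μ (k + j)
  rw [mul_add, mul_one, add_mul, ← map_mul, ← _root_.zpow_add, add_neg_cancel, zpow_zero,
    map_one, mul_smul_comm, smul_mul_assoc, A, A, mul_vecMulVec, vecMulVec_mul,
    zpow_mulVec_col, psi_vecMul, show j + (k + μ) = k + j + μ by ring]

theorem R_commutator (μ k ν l : ℤ) (hμ : b F n μ = 0) (hν : b F n ν = 0) (h : b F n (k + μ - l) = 0)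
    (x y : F) :
    ⁅R μ k hμ x, R ν l hν y⁆ = R (k + μ - l) l h (x * y * b F n (l + ν - k)) := by
  rw [commutatorElement_def, mul_inv_eq_iff_eq_mul, mul_inv_eq_iff_eq_mul]
  refine Subtype.ext ?_
  show (1 + x • A F n μ k) * (1 + y • A F n ν l) =
    (1 + (x * y * b F n (l + ν - k)) • A F n (k + μ - l) l) * (1 + y • A F n ν l) * (1 + x • A F n μ k)
  have e1 : A F n ν l * A F n μ k = 0 := by rw [A_mul_A, h, zero_smul]
  have e2 : A F n (k + μ - l) l * A F n ν l = 0 := by rw [A_mul_A, add_sub_cancel_left, hν, zero_smul]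
  have e3 : A F n (k + μ - l) l * A F n μ k = 0 := by rw [A_mul_A, h, zero_smul]
  simp only [add_mul, mul_add, one_mul, mul_one, smul_mul_assoc, mul_smul_comm, mul_assoc, e1, e2, e3,
    A_mul_A μ k ν l, smul_zero, mul_zero, add_zero, smul_smul]
  module

theorem R_commute (μ k ν l : ℤ) (hμ : b F n μ = 0) (hν : b F n ν = 0) (h : b F n (k + μ - l) = 0)
    (h' : b F n (l + ν - k) = 0) (x y : F) : Commute (R μ k hμ x) (R ν l hν y) := by
  rw [← commutatorElement_eq_one_iff_commute, R_commutator μ k ν l hμ hν h, h', mul_zero, R_zero]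

/-! ### The two generators -/

section Gen

variable (hn : 4 ≤ n)

theorem b_one (hn : 4 ≤ n) : b F n 1 = 0 := b_of_pos le_rfl (by omega)

variable (c : F)

/-- The conjugating transvection. -/
def tr : G := R 1 0 (b_one hn) c

/-- The subgroup generated by the two conjugates. -/
def H : Subgroup G := Subgroup.closure {J F n, tr hn c * J F n * (tr hn c)⁻¹}

theorem J_mem (j : ℤ) : J F n ^ j ∈ H hn c :=
  zpow_mem (Subgroup.subset_closure (Set.mem_insert _ _)) j

theorem conj_mem {g : G} (hg : g ∈ H hn c) (j : ℤ) : J F n ^ j * g * (J F n ^ j)⁻¹ ∈ H hn c :=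
  mul_mem (mul_mem (J_mem hn c j) hg) (inv_mem (J_mem hn c j))

theorem d_mem (k : ℤ) : R 1 k (b_one hn) c * R 1 (k + 1) (b_one hn) (-c) ∈ H hn c := by
  have h0 : R 1 0 (b_one hn) c * R 1 1 (b_one hn) (-c) ∈ H hn c := by
    have e : R 1 0 (b_one hn) c * R 1 1 (b_one hn) (-c) =
        tr hn c * J F n * (tr hn c)⁻¹ * (J F n ^ (1 : ℤ))⁻¹ := by
      rw [tr, R_inv, mul_assoc, mul_assoc, ← mul_assoc (J F n)]
      have := R_conj (F := F) (n := n) 1 0 1 (b_one hn) (-c)
      rw [zero_add, _root_.zpow_one] at this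
      rw [_root_.zpow_one, this]
    rw [e]
    exact mul_mem (Subgroup.subset_closure (Set.mem_insert_of_mem _ rfl)) (inv_mem (J_mem hn c 1))
  have := conj_mem hn c h0 k
  rwa [← conj_mul, R_conj, R_conj, zero_add, add_comm 1 k] at this

/-- The coefficients of the root elements of difference `μ` in the subgroup. -/
def X (μ : ℤ) (h : b F n μ = 0) : AddSubgroup F where
  carrier := {x | R μ 0 h x ∈ H hn c}
  add_mem' {x y} hx hy := by
    show R μ 0 h (x + y) ∈ H hn c
    rw [← R_add]; exact mul_mem hx hy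
  zero_mem' := by show R μ 0 h 0 ∈ H hn c; rw [R_zero]; exact one_mem _
  neg_mem' {x} hx := by show R μ 0 h (-x) ∈ H hn c; rw [← R_inv]; exact inv_mem hx

theorem mem_X_iff {μ : ℤ} (h : b F n μ = 0) (k : ℤ) (x : F) :
    x ∈ X hn c μ h ↔ R μ k h x ∈ H hn c := by
  constructor
  · intro hx
    have := conj_mem hn c (g := R μ 0 h x) hx k
    rwa [R_conj, zero_add] at this
  · intro hx
    have := conj_mem hn c hx (-k)
    rwa [R_conj, add_neg_cancel] at this

theorem X_mul {μ ν s : ℤ} (hμ : b F n μ = 0) (hν : b F n ν = 0) (hs : b F n s = 0) {x y : F}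
    (hx : x ∈ X hn c μ hμ) (hy : y ∈ X hn c ν hν) : x * y * b F n (μ + ν - s) ∈ X hn c s hs := by
  rw [mem_X_iff hn c hs (μ - s)]
  have hs' : b F n (0 + μ - (μ - s)) = 0 := by rw [show 0 + μ - (μ - s) = s by ring]; exact hs
  have h := R_commutator (F := F) (n := n) μ 0 ν (μ - s) hμ hν hs' x y
  simp only [show 0 + μ - (μ - s) = s by ring, show μ - s + ν - 0 = μ + ν - s by ring] at h
  rw [← h, commutatorElement_def]
  exact mul_mem (mul_mem (mul_mem hx ((mem_X_iff hn c hν _ _).1 hy)) (inv_mem hx))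
    (inv_mem ((mem_X_iff hn c hν _ _).1 hy))

theorem X_step {μ : ℕ} (h1 : 1 ≤ μ) (h2 : μ + 2 ≤ n) {x : F}
    (hx : x ∈ X hn c (μ : ℤ) (b_of_pos (by omega) (by omega))) :
    x * c ∈ X hn c ((μ + 1 : ℕ) : ℤ) (b_of_pos (by omega) (by omega)) := by
  set hμ : b F n (μ : ℤ) = 0 := b_of_pos (by omega) (by omega)
  have hμ1 : b F n ((μ + 1 : ℕ) : ℤ) = 0 := b_of_pos (by omega) (by omega)
  set r := R (μ : ℤ) 0 hμ x with hr
  set t := R 1 (-1) (b_one hn) c with ht
  set s := R 1 (-1 + 1) (b_one hn) (-c) with hs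
  have hd : t * s ∈ H hn c := d_mem hn c (-1)
  have hcomm : Commute r s := by
    refine R_commute _ _ _ _ _ _ ?_ ?_ _ _
    · rw [show (0 : ℤ) + μ - (-1 + 1) = μ by ring]; exact hμ
    · rw [show (-1 : ℤ) + 1 + 1 - 0 = 1 by ring]; exact b_one hn
  have hs1 : b F n (0 + (μ : ℤ) - -1) = 0 := by
    rw [show (0 : ℤ) + μ - -1 = ((μ + 1 : ℕ) : ℤ) by push_cast; ring]; exact hμ1
  have h := R_commutator (F := F) (n := n) (μ : ℤ) 0 1 (-1) hμ (b_one hn) hs1 x c
  simp only [show (-1 : ℤ) + 1 - 0 = 0 by ring, b_zero, mul_one,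
    show (0 : ℤ) + μ - -1 = ((μ + 1 : ℕ) : ℤ) by push_cast; ring] at h
  rw [mem_X_iff hn c _ (-1), ← h]
  have e : ⁅r, t⁆ = ⁅r, t * s⁆ := by
    rw [commutatorElement_def, commutatorElement_def, _root_.mul_inv_rev]
    have : r⁻¹ = s * r⁻¹ * s⁻¹ := by rw [hcomm.symm.inv_right.eq, mul_inv_cancel_right]
    conv_lhs => rw [this]
    group
  show ⁅r, t⁆ ∈ _
  rw [e, commutatorElement_def]
  exact mul_mem (mul_mem (mul_mem hx hd) (inv_mem hx)) (inv_mem hd)

theorem X_three : c ^ 3 ∈ X hn c 3 (b_of_pos (by norm_num) (by omega)) := by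
  have hb : ∀ j : ℤ, 1 ≤ j → j ≤ 3 → b F n j = 0 := fun j h1 h2 => b_of_pos h1 (by omega)
  set a0 := A F n 1 0 with ha0
  set a1 := A F n 1 1 with ha1
  set a2 := A F n 1 2 with ha2
  set b0 := A F n 2 0 with hb0
  set b1 := A F n 2 1 with hb1
  set C := A F n 3 0 with hC
  set β := b F n (-1) with hβ
  have m00 : a0 * a0 = 0 := A_sq _ _ (b_one hn)
  have m11 : a1 * a1 = 0 := A_sq _ _ (b_one hn)
  have m22 : a2 * a2 = 0 := A_sq _ _ (b_one hn)
  have m01 : a0 * a1 = 0 := by rw [ha0, ha1, A_mul_A, hb _ (by norm_num) (by norm_num), zero_smul]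
  have m02 : a0 * a2 = 0 := by rw [ha0, ha2, A_mul_A, hb _ (by norm_num) (by norm_num), zero_smul]
  have m12 : a1 * a2 = 0 := by rw [ha1, ha2, A_mul_A, hb _ (by norm_num) (by norm_num), zero_smul]
  have m10 : a1 * a0 = b0 := by rw [ha0, ha1, hb0, A_mul_A]; norm_num [b_zero]
  have m21 : a2 * a1 = b1 := by rw [ha1, ha2, hb1, A_mul_A]; norm_num [b_zero]
  have m20 : a2 * a0 = β • C := by rw [ha0, ha2, hC, A_mul_A]; norm_num [hβ]
  have n10 : b1 * a0 = C := by rw [ha0, hb1, hC, A_mul_A]; norm_num [b_zero]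
  have n20 : a2 * b0 = C := by rw [ha2, hb0, hC, A_mul_A]; norm_num [b_zero]
  have z : ∀ μ k ν l : ℤ, 1 ≤ l + ν - k → l + ν - k ≤ 3 → A F n μ k * A F n ν l = 0 := fun μ k ν l h1 h2 => by
    rw [A_mul_A, hb _ h1 h2, zero_smul]
  have z1 : b0 * a0 = 0 := z _ _ _ _ (by norm_num) (by norm_num)
  have z2 : b0 * a1 = 0 := z _ _ _ _ (by norm_num) (by norm_num)
  have z3 : b0 * a2 = 0 := z _ _ _ _ (by norm_num) (by norm_num)
  have z4 : b1 * a1 = 0 := z _ _ _ _ (by norm_num) (by norm_num)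
  have z5 : b1 * a2 = 0 := z _ _ _ _ (by norm_num) (by norm_num)
  have z6 : a0 * b0 = 0 := z _ _ _ _ (by norm_num) (by norm_num)
  have z7 : a1 * b0 = 0 := z _ _ _ _ (by norm_num) (by norm_num)
  have z8 : a0 * b1 = 0 := z _ _ _ _ (by norm_num) (by norm_num)
  have z9 : a1 * b1 = 0 := z _ _ _ _ (by norm_num) (by norm_num)
  have z10 : a2 * b1 = 0 := z _ _ _ _ (by norm_num) (by norm_num)
  have z11 : C * a0 = 0 := z _ _ _ _ (by norm_num) (by norm_num)
  have z12 : C * a1 = 0 := z _ _ _ _ (by norm_num) (by norm_num)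
  have z13 : C * a2 = 0 := z _ _ _ _ (by norm_num) (by norm_num)
  have z14 : a0 * C = 0 := z _ _ _ _ (by norm_num) (by norm_num)
  have z15 : a1 * C = 0 := z _ _ _ _ (by norm_num) (by norm_num)
  have z16 : a2 * C = 0 := z _ _ _ _ (by norm_num) (by norm_num)
  have z17 : b0 * b0 = 0 := z _ _ _ _ (by norm_num) (by norm_num)
  have z18 : b0 * b1 = 0 := z _ _ _ _ (by norm_num) (by norm_num)
  have z19 : b1 * b0 = 0 := z _ _ _ _ (by norm_num) (by norm_num)
  have z20 : b1 * b1 = 0 := z _ _ _ _ (by norm_num) (by norm_num)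
  have z21 : b0 * C = 0 := z _ _ _ _ (by norm_num) (by norm_num)
  have z22 : b1 * C = 0 := z _ _ _ _ (by norm_num) (by norm_num)
  have z23 : C * b0 = 0 := z _ _ _ _ (by norm_num) (by norm_num)
  have z24 : C * b1 = 0 := z _ _ _ _ (by norm_num) (by norm_num)
  have z25 : C * C = 0 := z _ _ _ _ (by norm_num) (by norm_num)
  set d0 : G := R 1 0 (b_one hn) c * R 1 (0 + 1) (b_one hn) (-c) with hd0
  set d1 : G := R 1 1 (b_one hn) c * R 1 (1 + 1) (b_one hn) (-c) with hd1
  have h0 : d0 ∈ H hn c := d_mem hn c 0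
  have h1 : d1 ∈ H hn c := d_mem hn c 1
  have c0 : mat F n d0 = 1 + c • a0 + (-c) • a1 := by
    show (1 + c • a0) * (1 + (-c) • a1) = _
    simp only [add_mul, mul_add, one_mul, mul_one, smul_mul_assoc, mul_smul_comm, m01, smul_zero, add_zero]
  have c1 : mat F n d1 = 1 + c • a1 + (-c) • a2 := by
    show (1 + c • a1) * (1 + (-c) • a2) = _
    simp only [add_mul, mul_add, one_mul, mul_one, smul_mul_assoc, mul_smul_comm, m12, smul_zero, add_zero]
  set W : Matrix (Fin n) (Fin n) F := (-c ^ 2) • b0 + (-c ^ 2) • b1 + (c ^ 2 * β + c ^ 3) • C with hW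
  have hw : mat F n ⁅d0, d1⁆ = 1 + W := by
    have e1 : mat F n ⁅d0, d1⁆ * mat F n (d1 * d0) =
        (1 + W) * mat F n (d1 * d0) := by
      rw [← map_mul, show ⁅d0, d1⁆ * (d1 * d0) = d0 * d1 by
        rw [commutatorElement_def]; group]
      rw [map_mul (mat F n) d0 d1, map_mul (mat F n) d1 d0, c0, c1, hW]
      simp only [add_mul, mul_add, one_mul, mul_one, smul_mul_assoc, mul_smul_comm, smul_add, m00, m11, m22,
        m01, m02, m12, m10, m21, m20, n10, n20, z1, z2, z3, z4, z5, z6, z7, z8, z9, z10, z11, z12, z13, z14, z15, z16, z17, z18, z19, z20, z21, z22, z23, z24, z25,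
        smul_zero, mul_zero, zero_mul, add_zero, zero_add, smul_smul]
      module
    exact ((Group.isUnit (d1 * d0)).map (mat F n)).mul_right_cancel e1
  have hR : ⁅⁅d0, d1⁆, d0⁆ = R 3 0 (hb 3 (by norm_num) le_rfl) (-c ^ 3) := by
    rw [commutatorElement_def (g₁ := ⁅d0, d1⁆), mul_inv_eq_iff_eq_mul, mul_inv_eq_iff_eq_mul]
    apply Subtype.ext
    change mat F n (⁅d0, d1⁆ * d0) = mat F n (R 3 0 (hb 3 (by norm_num) le_rfl) (-c ^ 3) * d0 * ⁅d0, d1⁆)
    simp only [map_mul, hw, c0, coe_R, hW, ← hC]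
    simp only [add_mul, mul_add, one_mul, mul_one, smul_mul_assoc, mul_smul_comm, smul_add, m00, m11, m22,
      m01, m02, m12, m10, m21, m20, n10, n20, z1, z2, z3, z4, z5, z6, z7, z8, z9, z10, z11, z12, z13, z14, z15,
      z16, z17, z18, z19, z20, z21, z22, z23, z24, z25, smul_zero, mul_zero, zero_mul, add_zero, zero_add, smul_smul]
    module
  have hm : R 3 0 (hb 3 (by norm_num) le_rfl) (-c ^ 3) ∈ H hn c := by
    rw [← hR]
    simp only [commutatorElement_def]
    exact mul_mem (mul_mem (mul_mem (mul_mem (mul_mem (mul_mem h0 h1) (inv_mem h0)) (inv_mem h1)) h0)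
      (inv_mem (mul_mem (mul_mem (mul_mem h0 h1) (inv_mem h0)) (inv_mem h1)))) (inv_mem h0)
  simpa using neg_mem (show -c ^ 3 ∈ X hn c 3 _ from hm)

end Gen

end Cfsg.Agent.TwoRegular.SLn
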