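/-
`SL_n(F)`, `n ≥ 4`, `F` finite: the two conjugate regular unipotent elements generate.
-/
import Cfsg.Agent.Lib.TwoRegular.SLn

set_option autoImplicit false
set_option linter.unusedSectionVars false

open Matrix
open scoped MatrixGroups commutatorElement

namespace Cfsg.Agent.TwoRegular.SLn

variable {F : Type*} [Field F] {n : ℕ} [NeZero n]

theorem mem_of_natCast_mul {p : ℕ} [Fact p.Prime] [CharP F p] {S : AddSubgroup F} {m : ℕ} (hm : ¬ p ∣ m)
    (a : ℕ) {x : F} (h : x * ((-1) ^ a * (m : F)) ∈ S) : x ∈ S := by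
  have h1 : x * (m : F) ∈ S := by
    rcases neg_one_pow_eq_or F a with e | e <;> rw [e] at h
    · rwa [one_mul] at h
    · rw [neg_one_mul, mul_neg] at h
      simpa using neg_mem h
  have hz : (m : ZMod p) ≠ 0 := fun e => hm ((ZMod.natCast_eq_zero_iff m p).1 e)
  have h2 : ((m ^ (p - 1) : ℕ) : F) = 1 := by
    have := congrArg (ZMod.castHom (dvd_refl p) F) (ZMod.pow_card_sub_one_eq_one hz)
    rw [map_pow, map_natCast, map_one] at this
    rw [Nat.cast_pow]; exact this
  have e : x = (m ^ (p - 2)) • (x * (m : F)) := by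
    have hp := (Fact.out : p.Prime).two_le
    rw [show p - 1 = (p - 2) + 1 by omega, pow_succ, Nat.cast_mul] at h2
    rw [nsmul_eq_mul, mul_left_comm, h2, mul_one]
  rw [e]
  exact nsmul_mem h1 _

section Fin

variable (hn : 4 ≤ n) (c : F)

/-- The power `i` of the parameter occurs at the difference `μ`. -/
def Gd (μ i : ℕ) : Prop := ∀ h : b F n (μ : ℤ) = 0, c ^ i ∈ X hn c (μ : ℤ) h

variable {hn c}

theorem gd_three : Gd hn c 3 3 := fun _ => X_three hn c

theorem gd_step {μ i : ℕ} (h1 : 1 ≤ μ) (h2 : μ + 2 ≤ n) (h : Gd hn c μ i) : Gd hn c (μ + 1) (i + 1) := by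
  intro _
  rw [pow_succ]
  exact X_step hn c h1 h2 (h _)

theorem gd_climb {μ i : ℕ} (h1 : 1 ≤ μ) (h : Gd hn c μ (i + μ)) :
    ∀ t, μ ≤ t → t + 1 ≤ n → Gd hn c t (i + t) := by
  intro t ht
  induction t, ht using Nat.le_induction with
  | base => exact fun _ => h
  | succ t ht ih => exact fun h2 => gd_step (h1.trans ht) (by omega) (ih (by omega))

theorem gd_high {μ : ℕ} (h1 : 3 ≤ μ) (h2 : μ + 1 ≤ n) : Gd hn c μ μ := by
  simpa using gd_climb (i := 0) (μ := 3) (by norm_num) (by simpa using gd_three (hn := hn) (c := c)) μ h1 h2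

theorem gd_mul {p : ℕ} [Fact p.Prime] [CharP F p] {μ ν s i j d a m : ℕ} (hm : ¬ p ∣ m)
    (hb : b F n (d : ℤ) = (-1) ^ a * (m : F)) (hμ : 1 ≤ μ) (hμ' : μ + 1 ≤ n) (hν : 1 ≤ ν) (hν' : ν + 1 ≤ n)
    (e : μ + ν = s + d) (h : Gd hn c μ i) (h' : Gd hn c ν j) : Gd hn c s (i + j) := by
  intro hs
  have := X_mul hn c (b_of_pos (by omega) (by omega)) (b_of_pos (by omega) (by omega)) hs
    (h (b_of_pos (by omega) (by omega))) (h' (b_of_pos (by omega) (by omega)))
  rw [show (μ : ℤ) + ν - s = (d : ℤ) by omega, hb, ← pow_add] at this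
  exact mem_of_natCast_mul hm a this

theorem gd_mul_n {p : ℕ} [Fact p.Prime] [CharP F p] {μ ν s i j : ℕ} (hμ : 1 ≤ μ) (hμ' : μ + 1 ≤ n) (hν : 1 ≤ ν)
    (hν' : ν + 1 ≤ n) (e : μ + ν = s + n) (h : Gd hn c μ i) (h' : Gd hn c ν j) : Gd hn c s (i + j) :=
  gd_mul (p := p) (a := n - 1) (m := 1) (by simpa using (Fact.out : p.Prime).one_lt.ne')
    (by rw [b_self, Nat.cast_one, mul_one]) hμ hμ' hν hν' e h h'

theorem gd_row (p : ℕ) [Fact p.Prime] [CharP F p] :
    ∀ a, ∀ t, 1 ≤ t → t + 1 ≤ n → Gd hn c t ((a + 2) * n + t)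
  | 0 => by
    have hl : Gd hn c (n - 1) (n - 1) := gd_high (by omega) (by omega)
    have h2 : Gd hn c 2 (3 + (n - 1)) :=
      gd_mul_n (p := p) (by norm_num) (by omega) (by omega) (by omega) (by omega) gd_three hl
    have h1 : Gd hn c 1 (3 + (n - 1) + (n - 1)) :=
      gd_mul_n (p := p) (by norm_num) (by omega) (by omega) (by omega) (by omega) h2 hl
    rw [show 3 + (n - 1) + (n - 1) = (0 + 2) * n + 1 by omega] at h1
    exact gd_climb le_rfl h1
  | a + 1 => by
    have hl : Gd hn c (n - 1) (n - 1) := gd_high (by omega) (by omega)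
    have h1 : Gd hn c 1 ((a + 2) * n + 2 + (n - 1)) :=
      gd_mul_n (p := p) (by norm_num) (by omega) (by omega) (by omega) (by omega)
        (gd_row p a 2 (by norm_num) (by omega)) hl
    rw [show (a + 2) * n + 2 + (n - 1) = (a + 1 + 2) * n + 1 by rw [add_mul (a + 1), add_mul a, add_mul a]; omega] at h1
    exact gd_climb le_rfl h1

theorem gd_shift {p e m : ℕ} [Fact p.Prime] [CharP F p] (hnm : n = p ^ e * m) (hm : ¬ p ∣ m)
    (hP : p ^ e + 3 ≤ n) :
    ∀ k a, ∀ t, 1 ≤ t → t + 1 ≤ n → Gd hn c t ((a + 2 + k) * n + k * p ^ e + t)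
  | 0, a => by simpa using gd_row p a
  | k + 1, a => by
    have hl : Gd hn c (n - 1) (n - 1) := gd_high (by omega) (by omega)
    have h1 : Gd hn c 1 ((a + 2 + k) * n + k * p ^ e + (p ^ e + 2) + (n - 1)) :=
      gd_mul (p := p) (d := n + p ^ e) (a := n - 1) (m := m) hm (b_shift hnm) (by omega) (by omega) (by omega)
        (by omega) (by omega) (gd_shift hnm hm hP k a (p ^ e + 2) (by omega) (by omega)) hl
    rw [show (a + 2 + k) * n + k * p ^ e + (p ^ e + 2) + (n - 1) = (a + 2 + (k + 1)) * n + (k + 1) * p ^ e + 1 by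
      rw [show a + 2 + (k + 1) = a + 2 + k + 1 by omega, add_mul (a + 2 + k), add_mul k]; omega] at h1
    exact gd_climb le_rfl h1

variable [Fintype F]

theorem X_one_eq_top (g : Fˣ) (hg : ∀ x, x ∈ Subgroup.zpowers g) (hc : c = (g : F)) (h : b F n 1 = 0) (x : F) :
    x ∈ X hn c 1 h := by
  obtain ⟨p, hchar⟩ := CharP.exists F
  haveI := hchar
  obtain ⟨f, hpp, hf⟩ := FiniteField.card F p
  haveI := Fact.mk hpp
  rcases eq_or_ne x 0 with rfl | hx
  · exact zero_mem _
  obtain ⟨e, m, hm, hnm⟩ := Nat.exists_eq_pow_mul_and_not_dvd (NeZero.ne n) p hpp.one_lt.ne'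
  have hm0 : 0 < m := Nat.pos_of_ne_zero (fun h0 => hm (h0 ▸ dvd_zero p))
  have hco : (Nat.card Fˣ).Coprime (p ^ e) := by
    refine Nat.Coprime.pow_right e (hpp.coprime_iff_not_dvd.2 fun hd => ?_).symm
    rw [Nat.card_units, Nat.card_eq_fintype_card, hf] at hd
    have h1 : p ∣ p ^ (f : ℕ) := dvd_pow_self p f.ne_zero
    have h2 := Nat.dvd_sub h1 hd
    rw [show p ^ (f : ℕ) - (p ^ (f : ℕ) - 1) = 1 by
      have := Nat.one_le_pow (f : ℕ) p hpp.pos
      omega] at h2
    exact hpp.one_lt.ne' (Nat.dvd_one.1 h2)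
  obtain ⟨y, hy⟩ := (powCoprime hco).surjective (Units.mk0 x hx * g⁻¹)
  rw [powCoprime_apply] at hy
  obtain ⟨j, hj⟩ := (isOfFinOrder_of_finite g).mem_powers_iff_mem_zpowers.2 (hg y)
  have ho : 0 < orderOf g := orderOf_pos g
  set N := j + orderOf g * (m * (m + 2)) with hN
  have hNy : g ^ N = y := by rw [hN, pow_add, pow_mul, pow_orderOf_eq_one, one_pow, mul_one]; exact hj
  have hge : m * (m + 2) ≤ N := le_add_left (Nat.le_mul_of_pos_left _ ho)
  have hgx : g ^ (N * p ^ e + 1) = Units.mk0 x hx := by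
    rw [pow_succ, pow_mul, hNy, hy, inv_mul_cancel_right]
  have hcx : c ^ (N * p ^ e + 1) = x := by
    rw [hc, ← Units.val_pow_eq_pow_val, hgx, Units.val_mk0]
  rw [← hcx]
  have hdm := Nat.div_add_mod N m
  have hmod := Nat.mod_lt N hm0
  have hdiv : m + 2 ≤ N / m := (Nat.le_div_iff_mul_le hm0).2 (by rw [mul_comm]; exact hge)
  rcases Nat.eq_or_lt_of_le (Nat.le_of_dvd (Nat.pos_of_ne_zero (NeZero.ne n)) ⟨m, hnm⟩) with hPn | hPn
  · have := gd_row (hn := hn) (c := c) p (N - 2) 1 le_rfl (by omega) h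
    have hN2 : 2 ≤ N := le_trans (by nlinarith) hge
    have hE : N * p ^ e = (N - 2 + 2) * n := by rw [show N - 2 + 2 = N by omega, hPn]
    rwa [hE]
  · have hP3 : p ^ e + 3 ≤ n := by
      have hm2 : 2 ≤ m := by
        by_contra hm2
        rw [show m = 1 by omega, mul_one] at hnm
        omega
      rcases Nat.eq_zero_or_pos e with rfl | he
      · rw [pow_zero]; omega
      · have hd : p ∣ p ^ e := dvd_pow_self p (by omega)
        have h2P : 2 * p ^ e ≤ n := by rw [hnm, mul_comm]; exact Nat.mul_le_mul_left _ hm2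
        by_contra hlt
        have hP2 : p ^ e ≤ 2 := by omega
        have hp2 : p = 2 := by have := Nat.le_of_dvd (pow_pos hpp.pos e) hd; have := hpp.two_le; omega
        have hP : p ^ e = 2 := by have := Nat.le_of_dvd (pow_pos hpp.pos e) hd; omega
        have : m = 2 := by rw [hP] at hnm; omega
        exact hm (by rw [hp2, this])
    have := gd_shift (hn := hn) (c := c) hnm hm hP3 (N % m) (N / m - 2 - N % m) 1 le_rfl (by omega) h
    rwa [show N / m - 2 - N % m + 2 + N % m = N / m by omega,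
      show N / m * n + N % m * p ^ e = N * p ^ e by
        conv_rhs => rw [← hdm]
        rw [hnm]; ring] at this

theorem X_eq_top (g : Fˣ) (hg : ∀ x, x ∈ Subgroup.zpowers g) (hc : c = (g : F)) :
    ∀ μ : ℕ, 1 ≤ μ → μ + 1 ≤ n → ∀ (h : b F n (μ : ℤ) = 0) (x : F), x ∈ X hn c (μ : ℤ) h := by
  intro μ h1
  induction μ, h1 using Nat.le_induction with
  | base => exact fun _ h x => X_one_eq_top g hg hc h x
  | succ μ h1 ih =>
    intro h2 h x
    have := X_mul hn c (b_of_pos (by omega) (by omega)) (b_one hn) h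
      (ih (by omega) (b_of_pos (by omega) (by omega)) x) (X_one_eq_top g hg hc (b_one hn) 1)
    rwa [show (μ : ℤ) + 1 - ((μ + 1 : ℕ) : ℤ) = 0 by push_cast; ring, b_zero, mul_one, mul_one] at this

end Fin

/-! ### From the roots to the elementary transvections -/

variable (F n) in
/-- The cyclic basis. -/
def Bm : Matrix (Fin n) (Fin n) F := fun i j => ((j : ℕ).choose i : F)

theorem Bm_det : (Bm F n).det = 1 := by
  rw [det_of_upperTriangular]
  · exact Finset.prod_eq_one fun i _ => by simp [Bm]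
  · intro i j hij
    have : (j : ℕ) < (i : ℕ) := hij
    simp [Bm, Nat.choose_eq_zero_of_lt this]

variable (F n) in
/-- The cyclic basis as an element of the group. -/
def B : SpecialLinearGroup (Fin n) F := ⟨Bm F n, Bm_det⟩

/-- A transvection with prescribed centre. -/
def E (i : Fin n) (φ : Fin n → F) (h : φ i = 0) : SpecialLinearGroup (Fin n) F :=
  ⟨1 + vecMulVec (Pi.single i 1) φ, by
    rw [vecMulVec_eq Unit, det_one_add_replicateCol_mul_replicateRow, dotProduct_single, mul_one, h, add_zero]⟩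

theorem E_mul (i : Fin n) (φ φ' : Fin n → F) (h : φ i = 0) (h' : φ' i = 0) :
    E i φ h * E i φ' h' = E i (φ + φ') (by simp [h, h']) := by
  refine Subtype.ext ?_
  show (1 + vecMulVec (Pi.single i 1) φ) * (1 + vecMulVec (Pi.single i 1) φ') = 1 + vecMulVec (Pi.single i 1) (φ + φ')
  have e : φ ⬝ᵥ Pi.single i 1 = 0 := by rw [dotProduct_single, mul_one, h]
  rw [add_mul, mul_add, mul_add, one_mul, one_mul, mul_one, vecMulVec_mul_vecMulVec, e, zero_smul,
    vecMulVec_zero, add_zero, vecMulVec_add]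
  abel

theorem col_B (i : Fin n) : col F n (i : ℕ) = mat F n (B F n) *ᵥ Pi.single i 1 := by
  funext r
  rw [col_nat, mulVec_single_one]
  rfl

theorem R_eq_B (i : Fin n) (μ k : ℤ) (hik : k + μ = ((i : ℕ) : ℤ)) (h : b F n μ = 0) (x : F) :
    R μ k h x = B F n * E i (x • fun j : Fin n => b F n (((j : ℕ) : ℤ) - k))
      (by rw [Pi.smul_apply, show ((i : ℕ) : ℤ) - k = μ by omega, h, smul_zero]) * (B F n)⁻¹ := by
  rw [eq_mul_inv_iff_mul_eq]
  refine Subtype.ext ?_
  show (1 + x • A F n μ k) * mat F n (B F n) =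
    mat F n (B F n) * (1 + vecMulVec (Pi.single i 1) (x • fun j : Fin n => b F n (((j : ℕ) : ℤ) - k)))
  have e : psi F n k ᵥ* mat F n (B F n) = fun j : Fin n => b F n (((j : ℕ) : ℤ) - k) := by
    funext j
    rw [← psi_col, col_B, dotProduct_mulVec, dotProduct_single, mul_one]
  rw [add_mul, one_mul, mul_add, mul_one, A, smul_mul_assoc, vecMulVec_mul, e, mul_vecMulVec, hik, col_B,
    vecMulVec_smul]

variable [Fintype F] {hn : 4 ≤ n}

/-- The axes occurring with centre `i`. -/
def Axes (K : Subgroup (SpecialLinearGroup (Fin n) F)) (i : Fin n) : Submodule F (Fin n → F) where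
  carrier := {φ | φ i = 0 ∧ ∀ (x : F) (h : (x • φ) i = 0), E i (x • φ) h ∈ K}
  add_mem' {φ ψ} hφ hψ := ⟨by simp [hφ.1, hψ.1], fun x h => by
    have e := E_mul i (x • φ) (x • ψ) (by simp [hφ.1]) (by simp [hψ.1])
    have : E i (x • (φ + ψ)) h = E i (x • φ) (by simp [hφ.1]) * E i (x • ψ) (by simp [hψ.1]) := by
      rw [e]; exact Subtype.ext (by simp [E, smul_add])
    rw [this]
    exact mul_mem (hφ.2 x _) (hψ.2 x _)⟩
  zero_mem' := ⟨rfl, fun x h => by
    have : E i (x • (0 : Fin n → F)) h = 1 := Subtype.ext (by simp [E])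
    rw [this]; exact one_mem _⟩
  smul_mem' a φ hφ := ⟨by simp [hφ.1], fun x h => by
    have : E i (x • a • φ) h = E i ((x * a) • φ) (by simp [hφ.1]) := Subtype.ext (by simp [E, smul_smul])
    rw [this]; exact hφ.2 (x * a) _⟩

/-- A vector of an axis space with a nonzero entry at `j` gives the unit vector at `j`,
provided the other unit vectors in its support are there. -/
theorem single_mem_of_support (S : Submodule F (Fin n → F)) (φ : Fin n → F) (j : Fin n) (hφ : φ ∈ S)
    (hj : φ j ≠ 0) (h : ∀ l, l ≠ j → φ l ≠ 0 → Pi.single l (1 : F) ∈ S) : Pi.single j (1 : F) ∈ S := by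
  have e : Pi.single j (φ j) = φ - ∑ l ∈ Finset.univ.erase j, Pi.single l (φ l) := by
    rw [eq_sub_iff_add_eq]
    exact (Finset.add_sum_erase Finset.univ (fun l => (Pi.single l (φ l) : Fin n → F)) (Finset.mem_univ j)).trans (Finset.univ_sum_single φ)
  have hm : Pi.single j (φ j) ∈ S := by
    rw [e]
    refine sub_mem hφ (sum_mem fun l hl => ?_)
    rcases eq_or_ne (φ l) 0 with h0 | h0
    · rw [h0, Pi.single_zero]; exact zero_mem _
    · have := S.smul_mem (φ l) (h l (Finset.mem_erase.1 hl).1 h0)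
      rwa [← Pi.single_smul', smul_eq_mul, mul_one] at this
  have := S.smul_mem (φ j)⁻¹ hm
  rwa [← Pi.single_smul', smul_eq_mul, inv_mul_cancel₀ hj] at this

theorem H_eq_top (g : Fˣ) (hg : ∀ x, x ∈ Subgroup.zpowers g) : H hn (g : F) = ⊤ := by
  set K := (H hn (g : F)).comap (MulAut.conj (B F n)).toMonoidHom with hK
  have hroot : ∀ (i : Fin n) (k : ℤ), 1 ≤ ((i : ℕ) : ℤ) - k → ((i : ℕ) : ℤ) - k < n →
      (fun j : Fin n => b F n (((j : ℕ) : ℤ) - k)) ∈ Axes K i := by
    intro i k h1 h2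
    have hb : b F n (((i : ℕ) : ℤ) - k) = 0 := b_of_pos h1 h2
    refine ⟨hb, fun x h => ?_⟩
    show B F n * E i (x • fun j : Fin n => b F n (((j : ℕ) : ℤ) - k)) h * (B F n)⁻¹ ∈ H hn (g : F)
    rw [← R_eq_B i _ k (by ring) hb x, ← mem_X_iff hn (g : F)]
    obtain ⟨μ, hμ⟩ : ∃ μ : ℕ, ((i : ℕ) : ℤ) - k = μ := ⟨(((i : ℕ) : ℤ) - k).toNat, by omega⟩
    revert hb
    rw [hμ]
    exact fun hb => X_eq_top g hg rfl μ (by omega) (by omega) hb x
  have hlow : ∀ (i : Fin n) (d : ℕ) (j : Fin n), (j : ℕ) = d → (j : ℕ) < i → Pi.single j (1 : F) ∈ Axes K i := by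
    intro i d
    induction d using Nat.strong_induction_on with
    | _ d ih =>
      intro j hjd hji
      refine single_mem_of_support _ _ j (hroot i (j : ℕ) (by omega) (by omega)) (by simp [b_zero]) fun l hl hne => ?_
      refine ih l ?_ l rfl ?_ <;> by_contra hc <;>
      · rcases Nat.lt_trichotomy (l : ℕ) j with h | h | h
        · omega
        · exact hl (Fin.ext h)
        · exact hne (b_of_pos (by omega) (by omega))
  have hhigh : ∀ (i : Fin n) (d : ℕ) (j : Fin n), n - 1 - (j : ℕ) = d → (i : ℕ) < j →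
      Pi.single j (1 : F) ∈ Axes K i := by
    intro i d
    induction d using Nat.strong_induction_on with
    | _ d ih =>
      intro j hjd hij
      refine single_mem_of_support _ _ j (hroot i (((j : ℕ) : ℤ) - n) (by omega) (by omega)) ?_ fun l hl hne => ?_
      · rw [sub_sub_cancel, b_self]; exact pow_ne_zero _ (neg_ne_zero.2 one_ne_zero)
      · rcases Nat.lt_trichotomy (l : ℕ) j with h | h | h
        · exact absurd (b_of_pos (by omega) (by omega)) hne
        · exact absurd (Fin.ext h) hl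
        · exact ih (n - 1 - (l : ℕ)) (by omega) l rfl (by omega)
  have hKtop : K = ⊤ := by
    refine GL.SL_eq_top_of_transvection_mem fun i j hij x => ?_
    have hmem : Pi.single j (1 : F) ∈ Axes K i := by
      rcases Nat.lt_trichotomy (j : ℕ) i with h | h | h
      · exact hlow i _ j rfl h
      · exact absurd (Fin.ext h).symm hij
      · exact hhigh i _ j rfl h
    have := hmem.2 x (by simp [Pi.single_eq_of_ne hij])
    convert this using 1
    refine Subtype.ext ?_
    rw [Matrix.SpecialLinearGroup.transvection_coe]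
    show 1 + Matrix.single i j x = 1 + vecMulVec (Pi.single i 1) (x • Pi.single j 1)
    ext r s
    simp [vecMulVec, Matrix.single_apply, Pi.single_apply, Matrix.one_apply]
    grind
  refine eq_top_iff.2 fun y _ => ?_
  have : (B F n)⁻¹ * y * B F n ∈ K := hKtop ▸ Subgroup.mem_top _
  rw [hK, Subgroup.mem_comap] at this
  simpa [mul_assoc] using this

/-! ### Regularity -/

theorem Jm_sub_one_pow : ∀ (k : ℕ) (i j : Fin n),
    ((Jm F n - 1) ^ k) i j = if (i : ℕ) = j + k then 1 else 0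
  | 0, i, j => by simp [Matrix.one_apply, Fin.ext_iff]
  | k + 1, i, j => by
    rw [pow_succ', Matrix.mul_apply]
    have hN : ∀ l : Fin n, (Jm F n - 1) i l = if (i : ℕ) = l + 1 then 1 else 0 := fun l => by
      simp only [Matrix.sub_apply, Matrix.one_apply, Jm, Fin.ext_iff]
      split_ifs <;> first | omega | simp
    simp only [hN, Jm_sub_one_pow k, ite_mul, one_mul, zero_mul]
    by_cases h : (i : ℕ) = j + (k + 1)
    · rw [if_pos h, Finset.sum_eq_single (⟨(i : ℕ) - 1, by omega⟩ : Fin n)]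
      · rw [if_pos (by simp only; omega), if_pos (by simp only; omega)]
      · intro l _ hl
        exact if_neg fun e => hl (Fin.ext (by simp only; omega))
      · simp
    · rw [if_neg h]
      refine Finset.sum_eq_zero fun l _ => ?_
      split_ifs <;> first | omega | rfl

theorem J_regular : IsNilpotent (mat F n (J F n) - 1) ∧ (mat F n (J F n) - 1) ^ (n - 1) ≠ 0 := by
  refine ⟨⟨n, ?_⟩, fun h => ?_⟩
  · ext i j
    show ((Jm F n - 1) ^ n) i j = 0
    rw [Jm_sub_one_pow, if_neg (by omega)]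
  · have e : ((Jm F n - 1) ^ (n - 1)) ⟨n - 1, by have := NeZero.one_le (n := n); omega⟩ 0 = 0 :=
      congrFun (congrFun h _) _
    rw [Jm_sub_one_pow, if_pos (by simp)] at e
    exact one_ne_zero e

end Cfsg.Agent.TwoRegular.SLn
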